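import Groth.Agent.ShStab.K849.InstMu
import Groth.Agent.ShStab.K849.HilbFacts

/-!
# The Jordan-Hölder step for `ℓ`-semistable sheaves

* `exists_step`: abstract form (in the setting of `K849.Abs.Setup`);
* `exists_jh`: an `ℓ`-semistable sheaf of dimension `d` which is not `ℓ`-stable has a proper saturated submodule `K`
  such that `K` and `E / K` are `ℓ`-semistable of dimension `d` with the same reduced truncated Hilbert polynomial;
* `isEll_ext`: extensions of `ℓ`-semistable sheaves with equal reduced truncations.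
-/

set_option autoImplicit false
set_option linter.unusedSectionVars false

universe v u

open CategoryTheory CategoryTheory.Limits AlgebraicGeometry Polynomial

namespace K706.JHStep

open StabCat K849.Abs K849.PolyOrd K849.TopPart K849.LatHN

section abs

variable {C : Type u} [Category.{v} C] [Abelian C] {V : Type*} [AddCommGroup V] [LinearOrder V]
  [IsOrderedAddMonoid V] [Module ℚ V] [PosSMulStrictMono ℚ V]
  {ok : C → Prop} {P : C → V} {α : V →ₗ[ℚ] ℚ}

theorem APure.of_mono {A B : C} (i : A ⟶ B) [Mono i] (hB : APure ok P α B) : APure ok P α A :=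
  fun F ι _ hF h0 => hB F (ι ≫ i) (mono_comp _ _) hF h0

theorem ASS.of_iso (h : Setup ok P α) {A B : C} (e : A ≅ B) (hA : ok A) (hs : ASS ok P α A) : ASS ok P α B :=
  fun F ι _ hF h0 => by
    have := hs F (ι ≫ e.inv) (mono_comp _ _) hF h0
    rwa [h.P_iso e hA] at this

/-- Comparison of a difference. -/
theorem redle_sub {x y u : V} (hu : 0 < α u) (hxu : α x ≤ α u) (hx : α u • x = α x • u) (hy : redle α y u) :
    redle α (y - x) (u - x) := by
  unfold redle at *
  rw [← smul_le_iff hu]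
  have e1 : α u • (α (u - x) • (y - x)) = α (u - x) • (α u • y - α x • u) := by
    rw [smul_comm, smul_sub, hx]
  have e2 : α u • (α (y - x) • (u - x)) = α (u - x) • (α y • u - α x • u) := by
    have e3 : α u • (u - x) = α (u - x) • u := by
      rw [smul_sub, hx, map_sub, sub_smul]
    rw [smul_comm, e3, map_sub, map_sub]
    module
  rw [e1, e2]
  refine smul_mono ?_ (sub_le_sub_right hy _)
  rw [map_sub]
  linarith

theorem exists_step (h : Setup ok P α) {E : C} (hE : ok E) (hp : APure ok P α E) (hs : ASS ok P α E)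
    {F : C} (ι : F ⟶ E) [Mono ι] (hF : ok F) (h0 : 0 < α (P F)) (h1 : α (P F) < α (P E))
    (he : redle α (P E) (P F)) :
    ∃ (K : C) (κ : K ⟶ E), Mono κ ∧ ok K ∧ ok (cokernel κ) ∧ α (P K) = α (P F) ∧
      (∃ j : F ⟶ K, j ≫ κ = ι) ∧
      APure ok P α K ∧ ASS ok P α K ∧ APure ok P α (cokernel κ) ∧ ASS ok P α (cokernel κ) ∧
      α (P E) • P K = α (P K) • P E ∧ P (cokernel κ) = P E - P K := by
  classical
  have hwf : WellFoundedGT (Setup.OkSub ok E) := h.noeth E hE
  have hk : ok ((Subobject.mk ι : Subobject E) : C) := h.ok_iso (Subobject.underlyingIso ι).symm hF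
  have hPk : P ((Subobject.mk ι : Subobject E) : C) = P F := (h.P_iso (Subobject.underlyingIso ι).symm hF).symm
  let f : Setup.OkSub ok E := ⟨Subobject.mk ι, hk⟩
  obtain ⟨m, ⟨hm1, hm2⟩, hmax⟩ := hwf.wf.has_min
    {x : Setup.OkSub ok E | f ≤ x ∧ α (P (x.1 : C)) = α (P F)} ⟨f, le_rfl, by rw [← hPk]⟩
  have hdiff : ∀ (a b : Setup.OkSub ok E) (hab : a ≤ b), ok (cokernel (Subobject.ofLE a.1 b.1 hab)) ∧
      P (cokernel (Subobject.ofLE a.1 b.1 hab)) = P (b.1 : C) - P (a.1 : C) := fun a b hab =>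
    ⟨h.ok_coker _ a.2 b.2, h.P_cokernel _ a.2 b.2⟩
  let t : Setup.OkSub ok E := ⟨⊤, ok_top h hE⟩
  have hmt : m ≤ t := le_top (a := m.1)
  have hPt : P (t.1 : C) = P E := h.P_iso (asIso (⊤ : Subobject E).arrow) (ok_top h hE)
  have hE0 : 0 < α (P E) := h0.trans h1
  -- `P F ≤ P K`
  have hle : P F ≤ P (m.1 : C) := by
    obtain ⟨d1, d2⟩ := hdiff f m hm1
    have d3 := h.nonneg _ d1 (by rw [d2, map_sub, hm2, ← hPk]; exact sub_self _)
    rw [d2, sub_nonneg] at d3
    exact hPk ▸ d3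
  have hK0 : 0 < α (P (m.1 : C)) := by rw [hm2]; exact h0
  have hKz : ¬ IsZero (m.1 : C) := fun hz => by
    rw [h.P_zero m.2 hz, map_zero] at hK0
    exact lt_irrefl _ hK0
  have r1 : redle α (P (m.1 : C)) (P E) := hs _ m.1.arrow inferInstance m.2 hKz
  have r2 : redle α (P E) (P (m.1 : C)) :=
    redle_trans h0 hE0.le hK0.le he (redle_of_le hm2.symm h0.le hle)
  have hred : α (P E) • P (m.1 : C) = α (P (m.1 : C)) • P E := le_antisymm r1 r2
  have hlt : α (P (m.1 : C)) ≤ α (P E) := by rw [hm2]; exact h1.le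
  have hpi : PureInt (Pv P E) α m t := by
    intro c hmc hct
    obtain ⟨d1, d2⟩ := hdiff m c hmc.le
    have d3 := h.alpha_nonneg d1
    rw [d2] at d3
    refine lt_of_le_of_ne d3 fun heq => ?_
    refine hmax c ⟨hm1.trans hmc.le, ?_⟩ hmc
    have heq' : (0 : ℚ) = α (P (c.1 : C) - P (m.1 : C)) := heq
    rw [map_sub] at heq'
    linarith
  have hsi : SSInt (Pv P E) α m t := by
    intro c hmc hct
    have hcz : ¬ IsZero (c.1 : C) := fun hz => by
      have d2 := (hdiff m c hmc.le)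
      have d3 := h.alpha_nonneg d2.1
      rw [d2.2, h.P_zero c.2 hz, zero_sub, map_neg] at d3
      linarith
    have h4 := redle_sub hE0 hlt hred (hs _ c.1.arrow inferInstance c.2 hcz)
    rw [← hPt] at h4
    exact h4
  let e : cokernel (Subobject.ofLE m.1 t.1 hmt) ≅ cokernel m.1.arrow :=
    (cokernelCompIsIso (Subobject.ofLE m.1 t.1 hmt) (⊤ : Subobject E).arrow).symm ≪≫
      cokernelIsoOfEq (Subobject.ofLE_arrow _)
  have hokc : ok (cokernel m.1.arrow) := h.ok_coker _ m.2 hE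
  refine ⟨(m.1 : C), m.1.arrow, inferInstance, m.2, hokc, hm2, ⟨(Subobject.underlyingIso ι).inv ≫ Subobject.ofLE _ _ hm1, by simp⟩,
    APure.of_mono m.1.arrow hp, ?_, ?_, ?_, hred, h.P_cokernel _ m.2 hE⟩
  · intro G κ _ hG hG0
    exact redle_trans hE0 (h.alpha_nonneg hG) hK0.le (hs G (κ ≫ m.1.arrow) (mono_comp _ _) hG hG0) r2
  · exact APure.of_mono e.inv ((pureInt_iff h hE m t hmt).1 hpi)
  · exact ASS.of_iso h e (hdiff m t hmt).1 ((ssInt_iff h hE m t hmt).1 hsi)

end abs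

section concrete

open K849.Inst K849.InstHN

variable {k : Type u} [Field k] {X : Scheme.{u}} [X.Over (Spec (CommRingCat.of k))]
  {L : X.Modules} {hp : X.Modules → ℚ[X]} [IsNoetherian X] (h : HilbFacts k X L hp)

include h

/-- The Jordan-Hölder step, in terms of a Hilbert polynomial function `hp`. -/
theorem exists_jh' {d ℓ : ℕ} {E : X.Modules} (hE : ShStab.IsEllSemistable k X L E d ℓ)
    (hns : ¬ ShStab.IsEllStable k X L E d ℓ) :
    ∃ (K : X.Modules) (κ : K ⟶ E), Mono κ ∧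
      0 < alpha d (hp K) ∧ alpha d (hp K) < alpha d (hp E) ∧
      ShStab.IsEllSemistable k X L K d ℓ ∧ ShStab.IsEllSemistable k X L (cokernel κ) d ℓ ∧
      RedEq d (topPart ℓ d (hp K)) (topPart ℓ d (hp E)) ∧
      RedEq d (topPart ℓ d (hp (cokernel κ))) (topPart ℓ d (hp E)) ∧ hp E = hp K + hp (cokernel κ) := by
  obtain ⟨e1, e2, e3, e4⟩ := (isEllSemistable_iff h ℓ d).1 hE
  obtain ⟨F, ι, hι, hF, h0, h1, h2⟩ : ∃ (F : X.Modules) (ι : F ⟶ E), Mono ι ∧ Coh.IsCoh F ∧
      0 < alpha d (hp F) ∧ alpha d (hp F) < alpha d (hp E) ∧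
      ¬ RedLT d (topPart ℓ d (hp F)) (topPart ℓ d (hp E)) := by
    by_contra hcon
    push Not at hcon
    refine hns ⟨hE.1, hE.2.1, hE.2.2.1, fun F ι hι hF pF pE hpF hpE h1 h2 => ?_⟩
    obtain rfl := h.unique hF hpF
    obtain rfl := h.unique hE.1 hpE
    exact hcon F ι hι hF h1 h2
  have hset := setup h ℓ d
  have hFok : ok hp d F := ⟨hF, (natDegree_le_of_mono h ι hF hE.1).trans e1.2⟩
  obtain ⟨K, κ, hκ, c1, c2, c3, -, c4, c5, c6, c7, c8, c9⟩ := exists_step hset e1 e3 e4 ι hFok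
    (by rw [alphaL_Pl h]; exact h0) (by rw [alphaL_Pl h, alphaL_Pl h]; exact h1)
    (not_redlt.1 fun hlt => h2 (redlt_iff.1 hlt))
  have aF : alpha d (hp K) = alpha d (hp F) := by rwa [alphaL_Pl h, alphaL_Pl h] at c3
  have hadd : hp E = hp K + hp (cokernel κ) := h.add _ (Setup.shortExact_coker κ) c1.1 e1.1 c2.1
  have hK0 : ¬ IsZero K := fun hz => by
    have h3 := hset.P_zero c1 hz
    have h4 : alphaL d (Pl hp ℓ d K) = 0 := by rw [h3, map_zero]
    rw [alphaL_Pl h] at h4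
    linarith
  have aadd : alpha d (hp E) = alpha d (hp K) + alpha d (hp (cokernel κ)) := by
    rw [hadd]
    unfold alpha
    rw [coeff_add]
    ring
  have hQ0 : ¬ IsZero (cokernel κ) := fun hz => by
    have h3 := hset.P_zero c2 hz
    have h4 : alphaL d (Pl hp ℓ d (cokernel κ)) = 0 := by rw [h3, map_zero]
    rw [alphaL_Pl h] at h4
    linarith
  have r1 : RedEq d (topPart ℓ d (hp K)) (topPart ℓ d (hp E)) := by
    unfold RedEq
    rw [alpha_topPart, alpha_topPart]
    rw [alphaL_Pl h, alphaL_Pl h] at c8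
    exact c8
  refine ⟨K, κ, hκ, by rw [aF]; exact h0, by rw [aF]; exact h1,
    (isEllSemistable_iff h ℓ d).2 ⟨c1, hK0, c4, c5⟩, (isEllSemistable_iff h ℓ d).2 ⟨c2, hQ0, c6, c7⟩, r1, ?_, hadd⟩
  unfold RedEq at r1 ⊢
  rw [alpha_topPart, alpha_topPart] at r1 ⊢
  have h5 : topPart ℓ d (hp (cokernel κ)) = topPart ℓ d (hp E) - topPart ℓ d (hp K) := by
    rw [hadd, topPart_add]
    ring
  have h6 : alpha d (hp (cokernel κ)) = alpha d (hp E) - alpha d (hp K) := by linarith
  rw [h5, h6, smul_sub, sub_smul, r1]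

end concrete

section final

variable {k : Type u} [Field k] {X : Scheme.{u}} [X.Over (Spec (CommRingCat.of k))]
  [IsProper (X ↘ Spec (CommRingCat.of k))] {L : X.Modules}

/-- **The Jordan-Hölder step**: an `ℓ`-semistable sheaf of dimension `d` which is not `ℓ`-stable is an extension of two
`ℓ`-semistable sheaves of dimension `d` with the same reduced truncated Hilbert polynomial. -/
theorem exists_jh (hL : CohB1.IsAmple L) {d ℓ : ℕ} {E : X.Modules} (hE : ShStab.IsEllSemistable k X L E d ℓ)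
    (hns : ¬ ShStab.IsEllStable k X L E d ℓ) :
    ∃ (K : X.Modules) (κ : K ⟶ E) (pK pE pQ : ℚ[X]), Mono κ ∧ Coh.IsCoh K ∧ Coh.IsCoh (cokernel κ) ∧
      ShStab.IsHilbPoly k X L K pK ∧ ShStab.IsHilbPoly k X L E pE ∧ ShStab.IsHilbPoly k X L (cokernel κ) pQ ∧
      pE = pK + pQ ∧ 0 < alpha d pK ∧ alpha d pK < alpha d pE ∧
      ShStab.IsEllSemistable k X L K d ℓ ∧ ShStab.IsEllSemistable k X L (cokernel κ) d ℓ ∧
      RedEq d (topPart ℓ d pK) (topPart ℓ d pE) ∧ RedEq d (topPart ℓ d pQ) (topPart ℓ d pE) := by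
  have hN := Groth.Agent.VarietyA.GlobGen.isNoetherian_of_finiteType (X ↘ (Spec (CommRingCat.of k)))
  have h := K849.HilbFacts.inst k X hL
  obtain ⟨K, κ, hκ, c1, c2, c3, c4, c5, c6, c7⟩ := exists_jh' h hE hns
  exact ⟨K, κ, _, _, _, hκ, c3.1, c4.1, h.spec _ c3.1, h.spec _ hE.1, h.spec _ c4.1, c7, c1, c2, c3, c4, c5, c6⟩

/-- Extensions of `ℓ`-semistable sheaves of dimension `d` with equal reduced truncations are `ℓ`-semistable. -/
theorem isEll_ext (hL : CohB1.IsAmple L) {d ℓ : ℕ} (T : ShortComplex X.Modules) (hT : T.ShortExact)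
    (hF : ShStab.IsEllSemistable k X L T.X₁ d ℓ) (hG : ShStab.IsEllSemistable k X L T.X₃ d ℓ) (pF pG : ℚ[X])
    (hpF : ShStab.IsHilbPoly k X L T.X₁ pF) (hpG : ShStab.IsHilbPoly k X L T.X₃ pG)
    (hr : RedEq d (topPart ℓ d pF) (topPart ℓ d pG)) : ShStab.IsEllSemistable k X L T.X₂ d ℓ := by
  have hN := Groth.Agent.VarietyA.GlobGen.isNoetherian_of_finiteType (X ↘ (Spec (CommRingCat.of k)))
  have h := K849.HilbFacts.inst k X hL
  obtain rfl := h.unique hF.1 hpF
  obtain rfl := h.unique hG.1 hpG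
  have e := hr
  unfold RedEq at e
  refine K849.InstMu.isEll_ext h T hT hF hG ?_ ?_
  · unfold RedLE
    rw [e]
    exact polyLE_refl _
  · unfold RedLE
    rw [e]
    exact polyLE_refl _

end final

end K706.JHStep
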