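import Groth.Agent.ShStab.K781.Base2
import Groth.Agent.ShStab.K34.MulIter
import Groth.Agent.ShStab.K923.NodeC
import Groth.Agent.ShStab.K774.NodeK
import Groth.Agent.ShStab.K706.JHStep

/-!
# The restriction theorem on projective space: the induction on `ℓ` and on the multiplicity
-/

set_option autoImplicit false
universe u
open CategoryTheory CategoryTheory.Limits AlgebraicGeometry TopologicalSpace Polynomial

namespace K706.Ind

open Groth.Agent Groth.Agent.Fdesc Groth.Agent.Fga.RegSec Groth.Agent.Fga.PicMon ShStab StabCat K847.Pn K847.GL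
  Groth.Agent.FormalA.HHLin K781.Base

section iter

variable {k : Type u} [Field k] {n : ℕ}

theorem mc_iterT (a : ℕ) (F : (CohB1.ProjSpace n k).Modules) :
    mc (iterT (O k n 1) a F) = mc F * mc (O k n a) := by
  induction a with
  | zero =>
    change mc F = _
    rw [Nat.cast_zero, mc_O_zero, mul_one]
  | succ a ih =>
    change mc (CohB1.tensorMod (O k n 1) (iterT (O k n 1) a F)) = _
    rw [mc_tensor, ih, mul_left_comm, mc_O_mul, Nat.cast_succ, add_comm]

/-- `O(1)^{⊗ a}`. -/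
noncomputable abbrev Na (k : Type u) [Field k] (n a : ℕ) : (CohB1.ProjSpace n k).Modules :=
  iterT (O k n 1) a (Coh.structureModule (CohB1.ProjSpace n k))

/-- `h^a`. -/
noncomputable abbrev sa (h : Coh.structureModule (CohB1.ProjSpace n k) ⟶ O k n 1) (a : ℕ) :
    Coh.structureModule (CohB1.ProjSpace n k) ⟶ Na k n a := mulI h a _

theorem isInvertible_Na (a : ℕ) : PicF.IsInvertible (Na k n a) := by
  have h1 : Nonempty (O k n a ≅ Na k n a) := by
    rw [← mc_eq_iff, mc_iterT, mc_one, one_mul]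
  intro x
  obtain ⟨U, hx, ⟨t⟩⟩ := Sga67.SerreVB.isInvertible_twist n k a x
  exact ⟨U, hx, ⟨(Scheme.Modules.restrictFunctor U.ι).mapIso h1.some.symm ≪≫ t⟩⟩

theorem nonempty_coker (h : Coh.structureModule (CohB1.ProjSpace n k) ⟶ O k n 1) (a : ℕ)
    (F : (CohB1.ProjSpace n k).Modules) :
    Nonempty (cokernel (mulI h a F) ≅ cokernel (mulS (sa h a) F)) := by
  obtain ⟨θ, hθ⟩ := K34.MulIter.exists_iter h a F
  exact ⟨(cokernelCompIsIso (mulI h a F) θ.hom).symm ≪≫ cokernelIsoOfEq hθ⟩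

theorem mono_sa (h : Coh.structureModule (CohB1.ProjSpace n k) ⟶ O k n 1) (a : ℕ)
    {F : (CohB1.ProjSpace n k).Modules} (hF : Coh.IsCoh F)
    (hs : AssSch.Ass F ⊆ CohB1.genLocus (O k n 1) h) : Mono (mulS (sa h a) F) := by
  have hNoeth := Fga.IntAdd.isNoetherian k (CohB1.ProjSpace n k)
  exact K847.Cut.mono_mulS (isInvertible_Na a) (sa h a) hF fun x hx =>
    K34.MulIter.mem_genLocus_mulI h a (hs hx)

theorem HP_sa (h : Coh.structureModule (CohB1.ProjSpace n k) ⟶ O k n 1) (a : ℕ)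
    {F : (CohB1.ProjSpace n k).Modules} (hF : Coh.IsCoh F) [Mono (mulS (sa h a) F)] {P : ℚ[X]}
    (hP : HP k F P) : HP k (cokernel (mulS (sa h a) F)) (P.comp (X + C (a : ℚ)) - P) := by
  have h1 : Nonempty (tw F a ≅ CohB1.tensorMod (Na k n a) F) := by
    rw [← mc_eq_iff, mc_tw, mc_tensor, mc_iterT, mc_one, one_mul, mul_comm]
  have h2 := HP_congr k h1.some (HP_tw k hP a)
  rw [Int.cast_natCast] at h2
  exact K774.NodeK.HP_coker k (mulS (sa h a) F) hF (K847.Cut.isCoh_tens (isInvertible_Na a) hF) hP h2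

end iter

theorem redEq_trans {d : ℕ} {A B E : ℚ[X]} (hE : alpha d E ≠ 0) (h1 : RedEq d A E) (h2 : RedEq d B E) :
    RedEq d A B := by
  unfold RedEq at *
  apply smul_right_injective _ hE
  change alpha d E • (alpha d B • A) = alpha d E • (alpha d A • B)
  rw [smul_comm, h1, smul_comm (alpha d E) (alpha d A) B, h2, smul_comm]

section main

variable (hP1 : StmtPoly1) (hst : StmtStab.{u})

include hP1 hst in
/-- The induction on the multiplicity. -/
theorem inner (k : Type u) [Field k] [Infinite k] (n d ℓ : ℕ) (hℓ : 1 ≤ ℓ) (hℓd : ℓ < d)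
    (hlow : ∀ E : (CohB1.ProjSpace n k).Modules,
      IsEllSemistable k (CohB1.ProjSpace n k) (O k n 1) E d ℓ → 2 ≤ ℓ → RestrAt k n d (ℓ - 1) E) :
    ∀ (N : ℕ) (E : (CohB1.ProjSpace n k).Modules),
      IsEllSemistable k (CohB1.ProjSpace n k) (O k n 1) E d ℓ →
      (∀ P : ℚ[X], HP k E P → alpha d P ≤ N) → RestrAt k n d ℓ E := by
  have hNoeth := Fga.IntAdd.isNoetherian k (CohB1.ProjSpace n k)
  have hL := isAmple_O_one k n
  -- positivity
  have hpos : ∀ (E : (CohB1.ProjSpace n k).Modules),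
      IsEllSemistable k (CohB1.ProjSpace n k) (O k n 1) E d ℓ → ∀ P : ℚ[X], HP k E P →
        0 < alpha d P ∧ P.natDegree ≤ d := by
    intro E hE P hP
    have h1 := K847.StabBasic.dim_support_eq_of_isPure hE.1 hE.2.1 hE.2.2.1
    exact ⟨K847.HilbBasic.alpha_pos k hL hE.1 h1 (isHilbPoly_of_HP k hP),
      K847.HilbBasic.natDegree_le k hL.1 hE.1 h1.le (isHilbPoly_of_HP k hP)⟩
  intro N
  induction N with
  | zero =>
    intro E hE hN
    obtain ⟨P, hP⟩ := Coherent.K51.HPDict.exists_HP hE.1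
    have h1 := (hpos E hE P hP).1
    have h2 := hN P hP
    rw [Nat.cast_zero] at h2
    exact absurd h1 (not_lt.2 h2)
  | succ N ih =>
    intro E hE hN
    by_cases hs : IsEllStable k (CohB1.ProjSpace n k) (O k n 1) E d ℓ
    · exact hst k n d ℓ hℓ hℓd E hs (hlow E hE)
    obtain ⟨K, κ, pK, pE, pQ, hκ, hKc, hQc, hpK, hpE, hpQ, hadd, h0, h1, hKs, hQs, r1, r2⟩ :=
      K706.JHStep.exists_jh hL hE hs
    have hpK' : HP k K pK := Coherent.K51.HPDict.HP_of_isHilbPoly hKc hpK
    have hpE' : HP k E pE := Coherent.K51.HPDict.HP_of_isHilbPoly hE.1 hpE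
    have hpQ' : HP k (cokernel κ) pQ := Coherent.K51.HPDict.HP_of_isHilbPoly hQc hpQ
    obtain ⟨zK, hzK⟩ := K774.NodeK.exists_int k hpK' (hpos K hKs pK hpK').2
    obtain ⟨zE, hzE⟩ := K774.NodeK.exists_int k hpE' (hpos E hE pE hpE').2
    have hQa : alpha d pE = alpha d pK + alpha d pQ := by
      rw [hadd]
      unfold alpha
      rw [coeff_add]
      ring
    have hEN := hN pE hpE'
    rw [hzK] at h0 h1 hQa
    rw [hzE] at h1 hQa hEN
    have h0' : 0 < zK := by exact_mod_cast h0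
    have h1' : zK < zE := by exact_mod_cast h1
    have hEN' : zE ≤ (N : ℤ) + 1 := by exact_mod_cast hEN
    have hKN : alpha d pK ≤ N := by
      rw [hzK]
      have : zK ≤ (N : ℤ) := by omega
      exact_mod_cast this
    have hQN : alpha d pQ ≤ N := by
      have h2 : alpha d pQ = ((zE - zK : ℤ) : ℚ) := by
        push_cast
        linarith
      rw [h2]
      have : zE - zK ≤ (N : ℤ) := by omega
      exact_mod_cast this
    obtain ⟨B1, hB1, a1, H1⟩ := ih K hKs fun P hP => by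
      rw [K847.HilbBasic.hilbPoly_unique k (isHilbPoly_of_HP k hP) hpK]; exact hKN
    obtain ⟨B2, hB2, a2, H2⟩ := ih (cokernel κ) hQs fun P hP => by
      rw [K847.HilbBasic.hilbPoly_unique k (isHilbPoly_of_HP k hP) hpQ]; exact hQN
    refine ⟨B1 ∪ B2 ∪ (AssSch.Ass K ∪ AssSch.Ass (cokernel κ)),
      (hB1.union hB2).union ((SubFilt.finite_ass hKc).union (SubFilt.finite_ass hQc)), max a1 a2,
      fun a ha h hB => ?_⟩
    have b1 : B1 ⊆ CohB1.genLocus (O k n 1) h := fun x hx => hB (Or.inl (Or.inl hx))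
    have b2 : B2 ⊆ CohB1.genLocus (O k n 1) h := fun x hx => hB (Or.inl (Or.inr hx))
    have m1 : Mono (mulS (sa h a) K) := mono_sa h a hKc fun x hx => hB (Or.inr (Or.inl hx))
    have m3 : Mono (mulS (sa h a) (cokernel κ)) := mono_sa h a hQc fun x hx => hB (Or.inr (Or.inr hx))
    let S : ShortComplex (CohB1.ProjSpace n k).Modules :=
      ShortComplex.mk κ (cokernel.π κ) (cokernel.condition κ)
    have hS : S.ShortExact := K847.StabBasic.shortExact_cokernel κ
    have hex := K923.NodeC.shortExact_cut (sa h a) (isInvertible_Na a) hS m3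
    obtain ⟨eK⟩ := nonempty_coker h a K
    obtain ⟨eE⟩ := nonempty_coker h a E
    obtain ⟨eQ⟩ := nonempty_coker h a (cokernel κ)
    have sK := K34.ClEll.isEllSemistable_iso k eK (H1 a ((le_max_left _ _).trans ha) h b1)
    have sQ := K34.ClEll.isEllSemistable_iso k eQ (H2 a ((le_max_right _ _).trans ha) h b2)
    have pK1 := isHilbPoly_of_HP k (HP_sa h a hKc hpK')
    have pQ1 := isHilbPoly_of_HP k (HP_sa h a hQc hpQ')
    have hd1 : d - 1 + 1 = d := by omega
    have hαE : alpha d (topPart ℓ d pE) ≠ 0 := by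
      rw [K849.TopPart.alpha_topPart]
      exact (hpos E hE pE hpE').1.ne'
    have hr : RedEq (d - 1) (topPart ℓ (d - 1) (pK.comp (X + C (a : ℚ)) - pK))
        (topPart ℓ (d - 1) (pQ.comp (X + C (a : ℚ)) - pQ)) := by
      refine hP1 (d - 1) ℓ (by omega) pK pQ ?_ ?_ a ?_
      · rw [hd1]; exact (hpos K hKs pK hpK').2
      · rw [hd1]; exact (hpos _ hQs pQ hpQ').2
      · rw [hd1]; exact redEq_trans hαE r1 r2
    exact K34.ClEll.isEllSemistable_iso k eE.symm
      (K706.JHStep.isEll_ext hL _ hex sK sQ _ _ pK1 pQ1 hr)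

include hP1 hst in
theorem main (hP4 : StmtPoly4) : StmtPn.{u} := by
  intro k _ _ n d ℓ hℓ hℓd
  induction ℓ with
  | zero => omega
  | succ ℓ ihℓ =>
    intro E hE
    obtain ⟨P, hP⟩ := Coherent.K51.HPDict.exists_HP hE.1
    refine inner hP1 hst k n d (ℓ + 1) hℓ hℓd (fun E' hE' h2 => ?_) ⌈alpha d P⌉₊ E hE fun Q hQ => ?_
    · refine ihℓ (by omega) (by omega) E' ⟨hE'.1, hE'.2.1, hE'.2.2.1, fun F ι hι hF pF pE hpF hpE h3 h4 => ?_⟩
      exact hP4 d (ℓ + 1) ℓ (by omega) pF pE (hE'.2.2.2 F ι hι hF pF pE hpF hpE h3 h4)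
    · have hP' : HP k E P := hP
      rw [K847.HilbBasic.hilbPoly_unique k (isHilbPoly_of_HP k hQ) (isHilbPoly_of_HP k hP')]
      exact Nat.le_ceil _

/-- **Node Ind.** -/
theorem stmtInd (hP1 : StmtPoly1) (hP4 : StmtPoly4) : StmtInd.{u} := fun hst => main hP1 hst hP4

end main

end K706.Ind
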